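import Cfsg.Agent.ChevTw.D4Max.Calc

/-!
The entrywise Frobenius on ³D₄(q) and the fixed root elements (owner: helper86).
-/

set_option autoImplicit false
set_option linter.unusedSectionVars false

namespace Cfsg.Agent.ChevTw.D4Max

open Cfsg.Lie Cfsg.Agent.ChevGrp Cfsg.Agent.ChevTw Cfsg.Agent.ChevTw.D4Torus

variable {K : Type*} [Field K] [Fintype K] {q : ℕ} (hq : IsPrimePow q) (hK : Fintype.card K = q ^ 3)

/-- The entrywise Frobenius. -/
noncomputable def frG : GL chevD4.Idx K →* GL chevD4.Idx K :=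
  Matrix.GeneralLinearGroup.map (frobD4 hq hK)

theorem frG_x (r : ℕ) (t : K) : frG hq hK (xGL chevD4 K r t) = xGL chevD4 K r (t ^ q) := by
  refine Units.ext ?_
  show ((xGL chevD4 K r t : GL chevD4.Idx K) : Matrix chevD4.Idx chevD4.Idx K).map (frobD4 hq hK) = _
  rw [val_xGL (rulesD4 K), val_xGL (rulesD4 K), x_map, frobD4_apply]

theorem frG_eq_self_iff (g : GL chevD4.Idx K) :
    frG hq hK g = g ↔ ∀ i j : chevD4.Idx, ((g : Matrix chevD4.Idx chevD4.Idx K) i j) ^ q =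
      (g : Matrix chevD4.Idx chevD4.Idx K) i j := by
  constructor
  · intro h i j
    conv_rhs => rw [← h]
    show _ = frobD4 hq hK _
    rw [frobD4_apply]
  · intro h
    refine Units.ext (Matrix.ext fun i j => ?_)
    show frobD4 hq hK _ = _
    rw [frobD4_apply, h]

include hq hK in
theorem add_pow_q (a b : K) : (a + b) ^ q = a ^ q + b ^ q := by
  simp only [← frobD4_apply hq hK, map_add]

include hq hK in
theorem neg_pow_q (a : K) : (-a) ^ q = -(a ^ q) := by
  simp only [← frobD4_apply hq hK, map_neg]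

include hq hK in
theorem neg_one_pow_q : (-1 : K) ^ q = -1 := by rw [neg_pow_q hq hK, one_pow]

theorem sig_xGL {r : ℕ} (hr : r < 24) (t : K) :
    (twistD4 hq hK).sig (xGL chevD4 K r t) = xGL chevD4 K (twD4.root r) ((symD4.sgn r : K) * t ^ q) := by
  refine ((twistD4 hq hK).sig_x r (show r < chevD4.nroots from hr) t).trans ?_
  show xGL chevD4 K (twD4.root r) ((symD4.sgn r : K) * frobD4 hq hK t) = _
  rw [frobD4_apply]

theorem x_mem_Gbar {r : ℕ} (hr : r < 24) (t : K) : xGL chevD4 K r t ∈ (sysD4 K).Gbar :=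
  (sysD4 K).x_mem_Gbar (show r < chevD4.nroots from hr) t

/-- The long roots of the twisted root system. -/
theorem long_table : ∀ r ∈ [14, 22, 23, 0, 1, 9], r < 24 ∧ twD4.root r = r ∧ symD4.sgn r = 1 := by
  decide +kernel

theorem sig_long {r : ℕ} (hr : r ∈ [14, 22, 23, 0, 1, 9]) (t : K) :
    (twistD4 hq hK).sig (xGL chevD4 K r t) = xGL chevD4 K r (t ^ q) := by
  obtain ⟨h, e1, e2⟩ := long_table r hr
  rw [sig_xGL hq hK h, e1, e2, Int.cast_one, one_mul]

theorem fixed_long {r : ℕ} (hr : r ∈ [14, 22, 23, 0, 1, 9]) {t : K}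
    (h : (twistD4 hq hK).sig (xGL chevD4 K r t) = xGL chevD4 K r t) : t ^ q = t := by
  rw [sig_long hq hK hr] at h
  exact x_param_inj (show r < chevD4.nroots from (long_table r hr).1) h

theorem sig_fixed {g : GL chevD4.Idx K} (hg : g ∈ twistedD4 K q) : (twistD4 hq hK).sig g = g :=
  (grpD4 hq hK).fixed hg

include hq hK in
theorem mem_Gbar {g : GL chevD4.Idx K} (hg : g ∈ twistedD4 K q) : g ∈ (sysD4 K).Gbar :=
  (grpD4 hq hK).Tw_le hg

/-- A fixed element of the positive unipotent group lies in ³D₄(q). -/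
theorem mem_of_fixed {u : GL chevD4.Idx K} (hu : u ∈ (sysD4 K).Ubar)
    (h : (twistD4 hq hK).sig u = u) : u ∈ twistedD4 K q := by
  have hR := rootD4 K
  have hl := twD4_ok.isLongest (T := twistD4 hq hK) (fun _ => rfl) rfl
  exact (Subgroup.mem_inf.1 (((grpD4 hq hK).fixUbar_eq (rulesD4 K) hR
    ((orbD4 hq hK).comm_word hR twD4.longSeq) (hl.invSet_eq hR)).2 ⟨hu, h⟩)).2

theorem x_mem_Ubar {r : ℕ} (hr : r ∈ List.range' 12 12) (t : K) :
    xGL chevD4 K r t ∈ (sysD4 K).Ubar :=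
  (sysD4 K).x_mem_US (T := posSet chevD4)
    (show chevD4.IsPosRoot r from (posList_enum' r (mem_range_pos.1 hr).2).1 hr) t
where
  posList_enum' : ∀ r < chevD4.nroots, (r ∈ List.range' 12 12 ↔ chevD4.IsPosRoot r) := by decide +kernel

include hq hK in
theorem long_mem {r : ℕ} (hr : r ∈ [14, 22, 23, 0, 1, 9]) {t : K} (ht' : t ^ q = t) :
    xGL chevD4 K r t ∈ twistedD4 K q := by
  have pos : ∀ s ∈ [14, 22, 23], ∀ u : K, u ^ q = u → xGL chevD4 K s u ∈ twistedD4 K q := by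
    intro s hs u hu
    refine mem_of_fixed hq hK (x_mem_Ubar (by simp at hs ⊢; omega) u) ?_
    rw [sig_long hq hK (by simp at hs ⊢; omega), hu]
  have h9 : ∀ u : K, u ^ q = u → xGL chevD4 K 9 u ∈ twistedD4 K q := by
    intro u hu
    have h := word_mem_genSubgroup (rulesD4 K) (W := d4Words K q) (w := [(9, u)])
      (Or.inl ⟨u, hu, 9, by simp [d4p2, d4m2], rfl⟩)
    rwa [List.map_singleton, List.prod_singleton] at h
  simp only [List.mem_cons, List.not_mem_nil, or_false] at hr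
  rcases hr with rfl | rfl | rfl | rfl | rfl | rfl
  · exact pos 14 (by simp) t ht'
  · exact pos 22 (by simp) t ht'
  · exact pos 23 (by simp) t ht'
  · exact (xtop_mem hq hK ht').2
  · obtain ⟨e1, e2, e3⟩ : chevD4.commTerms 0 14 = [(1, 1, 1, 1)] ∧ chevD4.commTerms 0 1 = [] ∧
        chevD4.neg 0 = 23 := by decide +kernel
    have e := conj_x (K := K) (r := 0) (s := 14) (by omega) (by omega) (by omega) (by omega) e1 (by omega)
      (by omega) (by omega) e2 t 1
    rw [Int.cast_one, one_mul, mul_one] at e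
    have h0 := (xtop_mem hq hK ht').2
    have h14 := pos 14 (by simp) 1 (one_pow q)
    have := mul_mem (inv_mem h14) (mul_mem (mul_mem h0 h14) (inv_mem h0))
    rwa [e, inv_mul_cancel_left] at this
  · exact h9 t ht'

theorem long_fix {r : ℕ} {t : K} (ht' : t ^ q = t) :
    frG hq hK (xGL chevD4 K r t) = xGL chevD4 K r t := by rw [frG_x, ht']

theorem Y1_mem (t : K) : Y1 q t ∈ twistedD4 K q := by
  have h := word_mem_genSubgroup (rulesD4 K) (W := d4Words K q)
    (w := [(18, t), (13, t ^ q), (12, t ^ (q ^ 2))])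
    (Or.inr ⟨t, (18, 13, 12), by simp [d4p1, d4p3, d4p4], rfl⟩)
  unfold twistedD4
  simpa [Y1, mul_assoc] using h

theorem frG_Y1 (t : K) : frG hq hK (Y1 q t) = Y1 q (t ^ q) := by
  rw [Y1, Y1, map_mul, map_mul, frG_x, frG_x, frG_x, pow_right_comm t (q ^ 2) q]

theorem Y1_mem_Ubar (t : K) : Y1 q t ∈ (sysD4 K).Ubar :=
  mul_mem (mul_mem (x_mem_Ubar (by simp) _) (x_mem_Ubar (by simp) _)) (x_mem_Ubar (by simp) _)

theorem NTop_le : NTop K ≤ (sysD4 K).Ubar := by
  show (sysD4 K).US {22, 23} ≤ _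
  refine (Subgroup.closure_le _).2 ?_
  rintro _ ⟨r, hr, t, rfl⟩
  exact x_mem_Ubar (by rcases hr with rfl | rfl <;> simp) t

theorem top_closed : UClosed chevD4 (lenD4 K) (htHom chevD4) ({22, 23} : Set ℕ) := by
  refine (rootD4 K).posSet_closed.subset_closed ?_ ?_
  · rintro r (rfl | rfl) <;> (show chevD4.IsPosRoot _; decide +kernel)
  · have h : ∀ r ∈ [22, 23], ∀ s ∈ [22, 23], s ≠ r → chevD4.commTerms r s = [] := by decide +kernel
    intro r hr s hs hne c hc
    rw [h r (by simpa using hr) s (by simpa using hs) hne] at hc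
    simp at hc

/-- A fixed element of the top lies in the small group. -/
theorem top_fixed {g : GL chevD4.Idx K} (hg : g ∈ NTop K) (h : (twistD4 hq hK).sig g = g) :
    ∃ a b : K, a ^ q = a ∧ b ^ q = b ∧ g = xGL chevD4 K 22 a * xGL chevD4 K 23 b := by
  have hR := rootD4 K
  have hL : Enum ({22, 23} : Set ℕ) [22, 23] := ⟨by simp, fun r => by simp⟩
  obtain ⟨f, hf⟩ := (sysD4 K).exists_coef hR top_closed hL hg
  have e : g = xGL chevD4 K 22 (f 22) * xGL chevD4 K 23 (f 23) := by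
    rw [hf]; simp [Sys.P]; rfl
  have h2 := h
  rw [e, (twistD4 hq hK).sig_mul _ (x_mem_Gbar (by omega) _) _ (x_mem_Gbar (by omega) _),
    sig_long hq hK (by simp), sig_long hq hK (by simp)] at h2
  have h3 := (sysD4 K).coef_unique hR top_closed hL
    (t := fun r => f r ^ q) (t' := f) (congrArg (sysD4 K).θ (by simp [Sys.P]; exact h2))
  exact ⟨f 22, f 23, h3 22 (by simp), h3 23 (by simp), e⟩

include hq hK in
theorem top_fixed_good {g : GL chevD4.Idx K} (hg : g ∈ NTop K) (hG : g ∈ twistedD4 K q) :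
    frG hq hK g = g := by
  obtain ⟨a, b, ha, hb, rfl⟩ := top_fixed hq hK hg (sig_fixed hq hK hG)
  rw [map_mul, long_fix hq hK ha, long_fix hq hK hb]

/-- The orbit triples. -/
theorem triple_table : ∀ T ∈ [[19, 16, 15], [17, 20, 21], [18, 13, 12], [5, 10, 11]], ∀ r ∈ T, ∀ s ∈ T,
    r < 24 ∧ s ≠ chevD4.neg r ∧ chevD4.commTerms r s = [] := by decide +kernel

theorem triple_sgn : twD4.root 19 = 16 ∧ twD4.root 16 = 15 ∧ twD4.root 15 = 19 ∧
    symD4.sgn 19 = -1 ∧ symD4.sgn 16 = 1 ∧ symD4.sgn 15 = -1 ∧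
    twD4.root 17 = 20 ∧ twD4.root 20 = 21 ∧ twD4.root 21 = 17 ∧
    symD4.sgn 17 = -1 ∧ symD4.sgn 20 = 1 ∧ symD4.sgn 21 = -1 ∧
    twD4.root 5 = 10 ∧ twD4.root 10 = 11 ∧ twD4.root 11 = 5 ∧
    symD4.sgn 5 = 1 ∧ symD4.sgn 10 = 1 ∧ symD4.sgn 11 = 1 := by
  and_intros <;> decide +kernel

/-- The coefficients of a fixed element on an orbit triple. -/
theorem fixed_triple {φ : (Fin chevD4.rank → ℤ) →+ ℤ} {r1 r2 r3 : ℕ}
    (hT : [r1, r2, r3] ∈ [[19, 16, 15], [17, 20, 21], [18, 13, 12], [5, 10, 11]])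
    (hC : UClosed chevD4 (lenD4 K) φ {r1, r2, r3}) (hnd : [r1, r2, r3].Nodup)
    (h1 : twD4.root r1 = r2) (h2 : twD4.root r2 = r3) (h3 : twD4.root r3 = r1) {a b c : K}
    (h : (twistD4 hq hK).sig (xGL chevD4 K r1 a * xGL chevD4 K r2 b * xGL chevD4 K r3 c) =
      xGL chevD4 K r1 a * xGL chevD4 K r2 b * xGL chevD4 K r3 c) :
    b = (symD4.sgn r1 : K) * a ^ q ∧ c = (symD4.sgn r2 : K) * b ^ q := by
  have tb := triple_table _ hT
  obtain ⟨l1, -, -⟩ := tb r1 (by simp) r1 (by simp)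
  obtain ⟨l2, -, -⟩ := tb r2 (by simp) r2 (by simp)
  obtain ⟨l3, -, -⟩ := tb r3 (by simp) r3 (by simp)
  have g1 := x_mem_Gbar (K := K) l1 a
  have g2 := x_mem_Gbar (K := K) l2 b
  have g3 := x_mem_Gbar (K := K) l3 c
  rw [(twistD4 hq hK).sig_mul _ (mul_mem g1 g2) _ g3, (twistD4 hq hK).sig_mul _ g1 _ g2,
    sig_xGL hq hK l1, sig_xGL hq hK l2, sig_xGL hq hK l3, h1, h2, h3] at h
  have comm : ∀ r ∈ [r1, r2, r3], ∀ s ∈ [r1, r2, r3], ∀ t u : K,
      Commute (xGL chevD4 K r t) (xGL chevD4 K s u) := fun r hr s hs t u => by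
    obtain ⟨hl, hn, hc⟩ := tb r hr s hs
    obtain ⟨hl', -, -⟩ := tb s hs r hr
    exact mul_inv_eq_iff_eq_mul.1 (conj_x_none hl hl' hn hc t u)
  set A := (symD4.sgn r1 : K) * a ^ q
  set B := (symD4.sgn r2 : K) * b ^ q
  set C := (symD4.sgn r3 : K) * c ^ q
  have e : xGL chevD4 K r2 A * xGL chevD4 K r3 B * xGL chevD4 K r1 C =
      xGL chevD4 K r1 C * xGL chevD4 K r2 A * xGL chevD4 K r3 B := by
    rw [mul_assoc _ _ (xGL chevD4 K r1 C), (comm r3 (by simp) r1 (by simp) B C).eq, ← mul_assoc,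
      (comm r2 (by simp) r1 (by simp) A C).eq]
  rw [e] at h
  simp only [List.nodup_cons, List.mem_cons, List.not_mem_nil, or_false, not_or] at hnd
  obtain ⟨⟨n12, n13⟩, n23, -⟩ := hnd
  have key := (sysD4 K).coef_unique (rootD4 K) hC (L := [r1, r2, r3])
    ⟨by simp [n12, n13, n23], fun r => by simp⟩
    (t := fun r => if r = r1 then C else if r = r2 then A else B)
    (t' := fun r => if r = r1 then a else if r = r2 then b else c)
    (congrArg (sysD4 K).θ (by
      simp [Sys.P, Ne.symm n12, Ne.symm n13, Ne.symm n23]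
      simp only [mul_assoc] at h
      exact h))
  have k2 := key r2 (by simp)
  have k3 := key r3 (by simp)
  simp [Ne.symm n12] at k2
  simp [Ne.symm n13, Ne.symm n23] at k3
  exact ⟨k2.symm, k3.symm⟩

theorem triple_closed {T : List ℕ} (hT : T ∈ [[19, 16, 15], [17, 20, 21], [18, 13, 12]]) :
    UClosed chevD4 (lenD4 K) (htHom chevD4) {r | r ∈ T} := by
  refine (rootD4 K).posSet_closed.subset_closed ?_ fun r hr s hs _ c hc => ?_
  · have h : ∀ T ∈ [[19, 16, 15], [17, 20, 21], [18, 13, 12]], ∀ r ∈ T, chevD4.IsPosRoot r := by decide +kernel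
    exact fun r hr => h T hT r hr
  · rw [(triple_table T (by simp at hT ⊢; tauto) r hr s hs).2.2] at hc
    simp at hc

theorem fixed_S1 {a b c : K}
    (h : (twistD4 hq hK).sig (xGL chevD4 K 19 a * xGL chevD4 K 16 b * xGL chevD4 K 15 c) =
      xGL chevD4 K 19 a * xGL chevD4 K 16 b * xGL chevD4 K 15 c) :
    xGL chevD4 K 19 a * xGL chevD4 K 16 b * xGL chevD4 K 15 c = S1 q (-a) := by
  obtain ⟨r1, r2, r3, s1, s2, -, -, -, -, -, -, -, -, -, -, -, -, -⟩ := triple_sgn
  have hC : UClosed chevD4 (lenD4 K) (htHom chevD4) ({19, 16, 15} : Set ℕ) := by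
    have := triple_closed (K := K) (T := [19, 16, 15]) (by simp)
    convert this using 1
    ext r; simp
  obtain ⟨hb, hc⟩ := fixed_triple hq hK (by simp) hC (by simp) r1 r2 r3 h
  rw [hb, s1] at hc ⊢
  rw [hc, s2, S1, neg_neg]
  simp only [Int.cast_neg, Int.cast_one, neg_mul, one_mul]
  rw [pow_two, pow_mul, neg_pow_q hq hK a, neg_pow_q hq hK (a ^ q)]

theorem fixed_S2 {a b c : K}
    (h : (twistD4 hq hK).sig (xGL chevD4 K 17 a * xGL chevD4 K 20 b * xGL chevD4 K 21 c) =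
      xGL chevD4 K 17 a * xGL chevD4 K 20 b * xGL chevD4 K 21 c) :
    xGL chevD4 K 17 a * xGL chevD4 K 20 b * xGL chevD4 K 21 c = S2 q a := by
  obtain ⟨-, -, -, -, -, -, r1, r2, r3, s1, s2, -, -, -, -, -, -, -⟩ := triple_sgn
  have hC : UClosed chevD4 (lenD4 K) (htHom chevD4) ({17, 20, 21} : Set ℕ) := by
    have := triple_closed (K := K) (T := [17, 20, 21]) (by simp)
    convert this using 1
    ext r; simp
  obtain ⟨hb, hc⟩ := fixed_triple hq hK (by simp) hC (by simp) r1 r2 r3 h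
  rw [hb, s1] at hc ⊢
  rw [hc, s2, S2]
  simp only [Int.cast_neg, Int.cast_one, neg_mul, one_mul]
  rw [neg_pow_q hq hK (a ^ q), ← pow_mul, ← pow_two]

theorem fixed_neg {a b c : K}
    (h : (twistD4 hq hK).sig (xGL chevD4 K 5 a * xGL chevD4 K 10 b * xGL chevD4 K 11 c) =
      xGL chevD4 K 5 a * xGL chevD4 K 10 b * xGL chevD4 K 11 c) :
    b = a ^ q ∧ c = a ^ (q ^ 2) := by
  obtain ⟨-, -, -, -, -, -, -, -, -, -, -, -, r1, r2, r3, s1, s2, -⟩ := triple_sgn
  have hC : UClosed chevD4 (lenD4 K) (-htHom chevD4) ({5, 10, 11} : Set ℕ) := by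
    refine (rootD4 K).negSet_closed.subset_closed ?_ fun r hr s hs _ c hc => ?_
    · rintro r (rfl | rfl | rfl) <;> (show chevD4.IsNegRoot _; decide +kernel)
    · rw [(triple_table [5, 10, 11] (by simp) r (by simpa using hr) s (by simpa using hs)).2.2] at hc
      simp at hc
  obtain ⟨hb, hc⟩ := fixed_triple hq hK (by simp) hC (by simp) r1 r2 r3 h
  rw [s1, Int.cast_one, one_mul] at hb
  rw [s2, Int.cast_one, one_mul, hb] at hc
  exact ⟨hb, by rw [hc, ← pow_mul, pow_two]⟩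

end Cfsg.Agent.ChevTw.D4Max
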