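import Cfsg.Agent.ChevTw.D4Torus.Torus

/-!
Conjugation rules for root elements of D₄ and the short root elements of ³D₄(q) (owner: helper86).
-/

set_option autoImplicit false

namespace Cfsg.Agent.ChevTw.D4Max

open Cfsg.Lie Cfsg.Agent.ChevGrp Cfsg.Agent.ChevTw Cfsg.Agent.ChevTw.D4Torus

variable {K : Type*} [Field K]

/-- `X` is the group of root elements of the roots 22 and 23. -/
noncomputable abbrev NTop (K : Type*) [Field K] : Subgroup (GL chevD4.Idx K) := (sysD4 K).US {22, 23}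

/-- A single term commutator, as a conjugation. -/
theorem conj_x {r s k : ℕ} {C : ℤ} (hr : r < 24) (hs : s < 24) (h1 : s ≠ r) (h2 : s ≠ chevD4.neg r)
    (h3 : chevD4.commTerms r s = [(k, C, 1, 1)]) (hk : k < 24) (hk1 : k ≠ r) (hk2 : k ≠ chevD4.neg r)
    (h4 : chevD4.commTerms r k = []) (t u : K) :
    xGL chevD4 K r t * xGL chevD4 K s u * (xGL chevD4 K r t)⁻¹ =
      xGL chevD4 K s u * xGL chevD4 K k (C * t * u) := by
  have e : xGL chevD4 K s u * xGL chevD4 K r t = xGL chevD4 K r t * xGL chevD4 K s u *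
      (((chevD4.commWord K r s t u)).map fun p => xGL chevD4 K p.1 p.2).prod :=
    (sysD4 K).comm r hr s hs h1 h2 t u
  simp only [ChevalleyDatum.commWord, h3, List.map_cons, List.map_nil, List.prod_cons, List.prod_nil,
    mul_one, pow_one] at e
  have e2 : xGL chevD4 K k ((C : K) * -t * u) = (xGL chevD4 K k (C * t * u))⁻¹ := by
    rw [show ((C : K) * -t * u) = -(C * t * u) by ring]
    exact ((sysD4 K).x_inv (show k < chevD4.nroots from hk) _).symm
  rw [e2, eq_mul_inv_iff_mul_eq] at e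
  have hc : Commute (xGL chevD4 K r t) (xGL chevD4 K k (C * t * u)) :=
    x_commute (sysD4 K) (show r < chevD4.nroots from hr) (show k < chevD4.nroots from hk) hk1 hk2 h4 t _
  rw [mul_inv_eq_iff_eq_mul, ← e, mul_assoc (xGL chevD4 K s u), mul_assoc (xGL chevD4 K s u), hc.eq]

theorem conj_x_none {r s : ℕ} (hr : r < 24) (hs : s < 24) (h2 : s ≠ chevD4.neg r)
    (h3 : chevD4.commTerms r s = []) (t u : K) :
    xGL chevD4 K r t * xGL chevD4 K s u * (xGL chevD4 K r t)⁻¹ = xGL chevD4 K s u := by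
  rcases eq_or_ne s r with rfl | h1
  · rw [mul_inv_eq_iff_eq_mul]
    show (sysD4 K).x s t * (sysD4 K).x s u = (sysD4 K).x s u * (sysD4 K).x s t
    rw [(sysD4 K).x_add s hr, (sysD4 K).x_add s hr, add_comm]
  · rw [mul_inv_eq_iff_eq_mul]
    exact x_commute (sysD4 K) hr hs h1 h2 h3 t u

/-- The positive roots, with the conjugation data of those acting on the roots 22 and 23. -/
theorem top_table : ∀ r ∈ List.range' 12 12, ∀ s ∈ [22, 23], s ≠ chevD4.neg r ∧
    (chevD4.commTerms r s = [] ∨ ((chevD4.commTerms r s = [(23, 1, 1, 1)] ∨ chevD4.commTerms r s = [(23, -1, 1, 1)]) ∧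
      s ≠ r ∧ 23 ≠ r ∧ 23 ≠ chevD4.neg r ∧ chevD4.commTerms r 23 = [])) := by decide +kernel

theorem mem_range_pos {r : ℕ} : r ∈ List.range' 12 12 ↔ 12 ≤ r ∧ r < 24 := by
  rw [List.mem_range'_1]

theorem conj_top_mem {r s : ℕ} (hr : r ∈ List.range' 12 12) (hs : s ∈ [22, 23]) (t u : K) :
    xGL chevD4 K r t * xGL chevD4 K s u * (xGL chevD4 K r t)⁻¹ ∈ NTop K := by
  obtain ⟨h2, h⟩ := top_table r hr s hs
  have hr' := (mem_range_pos.1 hr).2
  have hs' : s < 24 := by simp at hs; omega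
  have hmem : xGL chevD4 K s u ∈ NTop K := (sysD4 K).x_mem_US (by simpa using hs) u
  rcases h with h | ⟨h3, h1, hk1, hk2, h4⟩
  · rwa [conj_x_none hr' hs' h2 h]
  · have h23 : ∀ a : K, xGL chevD4 K 23 a ∈ NTop K := fun a => (sysD4 K).x_mem_US (by simp) a
    rcases h3 with h3 | h3 <;> rw [conj_x hr' hs' h1 h2 h3 (by omega) hk1 hk2 h4] <;>
      exact mul_mem hmem (h23 _)

theorem x_mem_norm {r : ℕ} (hr : r ∈ List.range' 12 12) (t : K) :
    xGL chevD4 K r t ∈ Subgroup.normalizer (NTop K : Set (GL chevD4.Idx K)) := by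
  refine (sysD4 K).mem_normalizer_US (fun s hs u => conj_top_mem hr (by simpa using hs) t u) fun s hs u => ?_
  have e : (xGL chevD4 K r t)⁻¹ = xGL chevD4 K r (-t) :=
    (sysD4 K).x_inv (show r < chevD4.nroots from (mem_range_pos.1 hr).2) t
  rw [e]
  have := conj_top_mem (K := K) hr (s := s) (by simpa using hs) (-t) u
  rwa [← e, inv_inv, e] at this

/-- Congruence modulo `NTop`. -/
def Eqv (a b : GL chevD4.Idx K) : Prop := a⁻¹ * b ∈ NTop K

theorem Eqv.refl (a : GL chevD4.Idx K) : Eqv a a := by simp [Eqv, one_mem]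

theorem Eqv.trans {a b c : GL chevD4.Idx K} (h : Eqv a b) (h' : Eqv b c) : Eqv a c := by
  simpa [Eqv, mul_assoc] using mul_mem h h'

theorem Eqv.symm {a b : GL chevD4.Idx K} (h : Eqv a b) : Eqv b a := by
  simpa [Eqv] using inv_mem h

theorem Eqv.of_eq {a b : GL chevD4.Idx K} (h : a = b) : Eqv a b := h ▸ Eqv.refl a

theorem Eqv.mul {a b c d : GL chevD4.Idx K}
    (hc : c ∈ Subgroup.normalizer (NTop K : Set (GL chevD4.Idx K))) (h : Eqv a b) (h' : Eqv c d) :
    Eqv (a * c) (b * d) := by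
  have h1 : c⁻¹ * (a⁻¹ * b) * c ∈ NTop K := by
    simpa using (Subgroup.mem_normalizer_iff''.1 hc _).1 h
  have := mul_mem h1 h'
  simpa [Eqv, mul_assoc] using this

theorem Eqv.conj {g a b : GL chevD4.Idx K}
    (hg : g ∈ Subgroup.normalizer (NTop K : Set (GL chevD4.Idx K))) (h : Eqv a b) :
    Eqv (g * a * g⁻¹) (g * b * g⁻¹) := by
  have := (Subgroup.mem_normalizer_iff.1 hg _).1 h
  simpa [Eqv, mul_assoc] using this

/-- The middle roots. -/
theorem mid_table : ∀ r ∈ [19, 16, 15, 21, 17, 20], ∀ s ∈ [19, 16, 15, 21, 17, 20],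
    r ∈ List.range' 12 12 ∧ s ≠ chevD4.neg r ∧ (chevD4.commTerms r s = [] ∨
      ((chevD4.commTerms r s = [(23, 1, 1, 1)] ∨ chevD4.commTerms r s = [(23, -1, 1, 1)]) ∧
        s ≠ r ∧ 23 ≠ r ∧ 23 ≠ chevD4.neg r ∧ chevD4.commTerms r 23 = [])) := by decide +kernel

/-- The middle root elements commute modulo `NTop`. -/
theorem mid_swap {r s : ℕ} (hr : r ∈ [19, 16, 15, 21, 17, 20]) (hs : s ∈ [19, 16, 15, 21, 17, 20]) (t u : K) :
    Eqv (xGL chevD4 K r t * xGL chevD4 K s u) (xGL chevD4 K s u * xGL chevD4 K r t) := by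
  obtain ⟨hr', h2, h⟩ := mid_table r hr s hs
  have hlr := (mem_range_pos.1 hr').2
  have hls : s < 24 := by simp at hs; omega
  rcases h with h | ⟨h3, h1, hk1, hk2, h4⟩
  · refine Eqv.of_eq ?_
    rw [← mul_inv_eq_iff_eq_mul]
    exact conj_x_none hlr hls h2 h t u
  · have h23 : ∀ a : K, xGL chevD4 K 23 a ∈ NTop K := fun a => (sysD4 K).x_mem_US (by simp) a
    obtain ⟨C, h3⟩ : ∃ C, chevD4.commTerms r s = [(23, C, 1, 1)] := h3.elim (fun h => ⟨_, h⟩) fun h => ⟨_, h⟩
    have e := conj_x hlr hls h1 h2 h3 (by omega) hk1 hk2 h4 t u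
    rw [mul_inv_eq_iff_eq_mul] at e
    rw [e]
    refine Eqv.mul (x_mem_norm hr' t) ?_ (Eqv.refl _)
    exact Eqv.symm (by simpa [Eqv] using h23 _)

/-- The three fixed root elements of `α`, `α + β`, `2α + β`. -/
noncomputable def Y1 (q : ℕ) (t : K) : GL chevD4.Idx K :=
  xGL chevD4 K 18 t * xGL chevD4 K 13 (t ^ q) * xGL chevD4 K 12 (t ^ (q ^ 2))

noncomputable def S1 (q : ℕ) (t : K) : GL chevD4.Idx K :=
  xGL chevD4 K 19 (-t) * xGL chevD4 K 16 (t ^ q) * xGL chevD4 K 15 (t ^ (q ^ 2))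

noncomputable def S2 (q : ℕ) (t : K) : GL chevD4.Idx K :=
  xGL chevD4 K 17 t * xGL chevD4 K 20 (-t ^ q) * xGL chevD4 K 21 (-t ^ (q ^ 2))

theorem Y1_mem_norm (q : ℕ) (t : K) :
    Y1 q t ∈ Subgroup.normalizer (NTop K : Set (GL chevD4.Idx K)) :=
  mul_mem (mul_mem (x_mem_norm (by simp) _) (x_mem_norm (by simp) _)) (x_mem_norm (by simp) _)

theorem tblA : chevD4.commTerms 12 14 = [(15, 1, 1, 1)] ∧ chevD4.commTerms 12 15 = [] ∧
    chevD4.commTerms 13 14 = [(16, 1, 1, 1)] ∧ chevD4.commTerms 13 16 = [] ∧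
    chevD4.commTerms 13 15 = [(17, 1, 1, 1)] ∧ chevD4.commTerms 13 17 = [] ∧
    chevD4.commTerms 18 14 = [(19, -1, 1, 1)] ∧ chevD4.commTerms 18 19 = [] ∧
    chevD4.commTerms 18 16 = [(21, -1, 1, 1)] ∧ chevD4.commTerms 18 21 = [] ∧
    chevD4.commTerms 18 15 = [(20, -1, 1, 1)] ∧ chevD4.commTerms 18 20 = [] ∧
    chevD4.commTerms 18 17 = [(22, -1, 1, 1)] ∧ chevD4.commTerms 18 22 = [] := by
  and_intros <;> decide +kernel

theorem tblB : chevD4.commTerms 12 19 = [(20, 1, 1, 1)] ∧ chevD4.commTerms 12 20 = [] ∧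
    chevD4.commTerms 12 16 = [(17, 1, 1, 1)] ∧ chevD4.commTerms 12 17 = [] ∧
    chevD4.commTerms 13 19 = [(21, 1, 1, 1)] ∧ chevD4.commTerms 13 21 = [] ∧
    chevD4.commTerms 13 20 = [(22, 1, 1, 1)] ∧ chevD4.commTerms 13 22 = [] ∧
    chevD4.commTerms 12 15 = [] ∧ chevD4.commTerms 18 19 = [] ∧
    chevD4.neg 12 = 11 ∧ chevD4.neg 13 = 10 ∧ chevD4.neg 18 = 5 := by
  and_intros <;> decide +kernel

theorem conj_mul3 {G : Type*} [Group G] (g a b c : G) :
    g * (a * b * c) * g⁻¹ = (g * a * g⁻¹) * (g * b * g⁻¹) * (g * c * g⁻¹) := by group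

/-- `Y1 t x₁₄(c) Y1 t⁻¹`. -/
theorem Y1_conj_beta (q : ℕ) (t c : K) :
    Y1 q t * xGL chevD4 K 14 c * (Y1 q t)⁻¹ =
      xGL chevD4 K 14 c * xGL chevD4 K 19 (-(t * c)) * xGL chevD4 K 16 (t ^ q * c) *
        xGL chevD4 K 21 (-(t * (t ^ q * c))) * xGL chevD4 K 15 (t ^ (q ^ 2) * c) *
        xGL chevD4 K 20 (-(t * (t ^ (q ^ 2) * c))) * xGL chevD4 K 17 (t ^ q * (t ^ (q ^ 2) * c)) *
        xGL chevD4 K 22 (-(t * (t ^ q * (t ^ (q ^ 2) * c)))) := by
  obtain ⟨a1, a2, b1, b2, b3, b4, c1, c2, c3, c4, c5, c6, c7, c8⟩ := tblA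
  obtain ⟨-, -, -, -, -, -, -, -, -, -, n12, n13, n18⟩ := tblB
  have e : Y1 q t * xGL chevD4 K 14 c * (Y1 q t)⁻¹ = xGL chevD4 K 18 t * (xGL chevD4 K 13 (t ^ q) *
      (xGL chevD4 K 12 (t ^ (q ^ 2)) * xGL chevD4 K 14 c * (xGL chevD4 K 12 (t ^ (q ^ 2)))⁻¹) *
      (xGL chevD4 K 13 (t ^ q))⁻¹) * (xGL chevD4 K 18 t)⁻¹ := by
    simp only [Y1, mul_inv_rev, mul_assoc]
  rw [e, conj_x (by omega) (by omega) (by omega) (by omega) a1 (by omega) (by omega) (by omega) a2]
  have e2 : ∀ (g a b : GL chevD4.Idx K), g * (a * b) * g⁻¹ = (g * a * g⁻¹) * (g * b * g⁻¹) :=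
    fun g a b => by group
  simp only [Int.cast_one, one_mul]
  rw [e2 (xGL chevD4 K 13 _), conj_x (by omega) (by omega) (by omega) (by omega) b1 (by omega) (by omega) (by omega) b2,
    conj_x (by omega) (by omega) (by omega) (by omega) b3 (by omega) (by omega) (by omega) b4]
  simp only [Int.cast_one, one_mul, e2]
  rw [conj_x (by omega) (by omega) (by omega) (by omega) c1 (by omega) (by omega) (by omega) c2,
    conj_x (by omega) (by omega) (by omega) (by omega) c3 (by omega) (by omega) (by omega) c4,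
    conj_x (by omega) (by omega) (by omega) (by omega) c5 (by omega) (by omega) (by omega) c6,
    conj_x (by omega) (by omega) (by omega) (by omega) c7 (by omega) (by omega) (by omega) c8]
  simp only [Int.cast_neg, Int.cast_one, neg_mul, one_mul, mul_assoc]

/-- The product of a list of middle root elements. -/
noncomputable def mp (l : List (ℕ × K)) : GL chevD4.Idx K := (l.map fun p => xGL chevD4 K p.1 p.2).prod

theorem mp_norm {l : List (ℕ × K)} (h : ∀ p ∈ l, p.1 ∈ [19, 16, 15, 21, 17, 20]) :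
    mp l ∈ Subgroup.normalizer (NTop K : Set (GL chevD4.Idx K)) := by
  refine list_prod_mem fun g hg => ?_
  obtain ⟨p, hp, rfl⟩ := List.mem_map.1 hg
  exact x_mem_norm (mid_table p.1 (h p hp) p.1 (h p hp)).1 _

theorem mp_perm {l l' : List (ℕ × K)} (hl : l.Perm l') (h : ∀ p ∈ l, p.1 ∈ [19, 16, 15, 21, 17, 20]) :
    Eqv (mp l) (mp l') := by
  induction hl with
  | nil => exact Eqv.refl _
  | @cons a l l' _ ih =>
    have h' : ∀ p ∈ l, p.1 ∈ [19, 16, 15, 21, 17, 20] := fun p hp => h p (List.mem_cons_of_mem _ hp)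
    simp only [mp, List.map_cons, List.prod_cons]
    exact Eqv.mul (mp_norm h') (Eqv.refl _) (ih h')
  | swap a b l =>
    simp only [mp, List.map_cons, List.prod_cons, ← mul_assoc]
    exact Eqv.mul (mp_norm fun p hp => h p (List.mem_cons_of_mem _ (List.mem_cons_of_mem _ hp)))
      (mid_swap (h b List.mem_cons_self) (h a (List.mem_cons_of_mem _ List.mem_cons_self)) _ _) (Eqv.refl _)
  | trans h1 _ ih1 ih2 => exact (ih1 h).trans (ih2 fun p hp => h p (h1.mem_iff.2 hp))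

theorem top_mem (a : K) : xGL chevD4 K 22 a ∈ NTop K ∧ xGL chevD4 K 23 a ∈ NTop K :=
  ⟨(sysD4 K).x_mem_US (by simp) a, (sysD4 K).x_mem_US (by simp) a⟩

theorem Eqv.mul_top {a b : GL chevD4.Idx K} (hb : b ∈ NTop K) : Eqv (a * b) a := by
  have := inv_mem hb
  simpa [Eqv] using this

/-- The conjugate of `x₁₄(c)` modulo the top. -/
theorem Y1_conj_eqv {q : ℕ} {t c : K} (hc : c ^ q = c) (hq3 : ∀ s : K, (s ^ (q ^ 2)) ^ q = s) :
    Eqv (Y1 q t * xGL chevD4 K 14 c * (Y1 q t)⁻¹)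
      (xGL chevD4 K 14 c * (S1 q (c * t) * S2 q (c * t ^ q * t ^ (q ^ 2)))) := by
  rw [Y1_conj_beta]
  refine (Eqv.mul_top (top_mem _).1).trans ?_
  set t1 := t ^ q with ht1
  set t2 := t ^ (q ^ 2) with ht2
  have hcc : c ^ (q ^ 2) = c := by rw [pow_two, pow_mul, hc, hc]
  have e1 : (t ^ q) ^ q = t2 := by rw [ht2, ← pow_mul, pow_two]
  have e2 : (t ^ q) ^ (q ^ 2) = t := by rw [← pow_mul, mul_comm, pow_mul]; exact hq3 t
  have e3 : t2 ^ q = t := hq3 t
  have e4 : t2 ^ (q ^ 2) = t1 := by rw [pow_two, pow_mul, e3]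
  have a1 : (c * t) ^ q = t1 * c := by rw [mul_pow, hc, mul_comm]
  have a2 : (c * t) ^ (q ^ 2) = t2 * c := by rw [mul_pow, hcc, mul_comm]
  have b1 : -(c * t1 * t2) ^ q = -(t * (t2 * c)) := by rw [mul_pow, mul_pow, hc, e1, e3]; ring
  have b2 : -(c * t1 * t2) ^ (q ^ 2) = -(t * (t1 * c)) := by rw [mul_pow, mul_pow, hcc, e2, e4]; ring
  have b0 : c * t1 * t2 = t1 * (t2 * c) := by ring
  simp only [S1, S2, a1, a2, b1, b2]
  rw [b0, mul_comm c t]
  have key := mp_perm (K := K) (l := [(19, -(t * c)), (16, t1 * c), (21, -(t * (t1 * c))), (15, t2 * c),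
      (20, -(t * (t2 * c))), (17, t1 * (t2 * c))])
    (l' := [(19, -(t * c)), (16, t1 * c), (15, t2 * c), (17, t1 * (t2 * c)), (20, -(t * (t2 * c))),
      (21, -(t * (t1 * c)))])
    (by
      refine .cons _ (.cons _ ?_)
      refine (List.perm_middle (l₁ := [_]) (l₂ := _)).symm.trans ?_
      refine .cons _ ?_
      exact (List.perm_append_comm (l₁ := [_]) (l₂ := [_, _])).trans (.swap _ _ _))
    (by simp)
  simp only [mp, List.map_cons, List.map_nil, List.prod_cons, List.prod_nil, mul_one, mul_assoc] at key ⊢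
  have := Eqv.mul (a := xGL chevD4 K 14 c) (b := xGL chevD4 K 14 c) ?_ (Eqv.refl _) key
  · exact this
  · simpa only [mp, List.map_cons, List.map_nil, List.prod_cons, List.prod_nil, mul_one] using
      mp_norm (K := K) (l := [(19, -(t * c)), (16, t1 * c), (21, -(t * (t1 * c))), (15, t2 * c),
        (20, -(t * (t2 * c))), (17, t1 * (t2 * c))]) (by simp)

theorem high_table : ∀ a ∈ [12, 13, 18], ∀ r ∈ [21, 17, 20], a ∈ List.range' 12 12 ∧ r ≠ chevD4.neg a ∧
    (chevD4.commTerms a r = [] ∨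
      ((chevD4.commTerms a r = [(22, 1, 1, 1)] ∨ chevD4.commTerms a r = [(22, -1, 1, 1)]) ∧
        r ≠ a ∧ 22 ≠ a ∧ 22 ≠ chevD4.neg a ∧ chevD4.commTerms a 22 = [])) := by decide +kernel

theorem high_conj {a r : ℕ} (ha : a ∈ [12, 13, 18]) (hr : r ∈ [21, 17, 20]) (t u : K) :
    Eqv (xGL chevD4 K a t * xGL chevD4 K r u * (xGL chevD4 K a t)⁻¹) (xGL chevD4 K r u) := by
  obtain ⟨-, h2, h⟩ := high_table a ha r hr
  have hla : a < 24 := by simp at ha; omega
  have hlr : r < 24 := by simp at hr; omega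
  rcases h with h | ⟨h3, h1, hk1, hk2, h4⟩
  · exact Eqv.of_eq (conj_x_none hla hlr h2 h t u)
  · obtain ⟨C, h3⟩ : ∃ C, chevD4.commTerms a r = [(22, C, 1, 1)] :=
      h3.elim (fun h => ⟨_, h⟩) fun h => ⟨_, h⟩
    rw [conj_x hla hlr h1 h2 h3 (by omega) hk1 hk2 h4]
    exact Eqv.mul_top (top_mem _).1

/-- `Y1 t` fixes the elements of `2α + β` modulo the top. -/
theorem Y1_high {q : ℕ} {r : ℕ} (hr : r ∈ [21, 17, 20]) (t u : K) :
    Eqv (Y1 q t * xGL chevD4 K r u * (Y1 q t)⁻¹) (xGL chevD4 K r u) := by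
  have e : ∀ (a b c x : GL chevD4.Idx K), a * b * c * x * (a * b * c)⁻¹ =
      a * (b * (c * x * c⁻¹) * b⁻¹) * a⁻¹ := fun a b c x => by group
  rw [Y1, e]
  have n : ∀ a ∈ [12, 13, 18], ∀ v : K, xGL chevD4 K a v ∈
      Subgroup.normalizer (NTop K : Set (GL chevD4.Idx K)) := fun a ha v =>
    x_mem_norm (high_table a ha r hr).1 v
  refine (Eqv.conj (n 18 (by simp) _) (Eqv.conj (n 13 (by simp) _) (high_conj (a := 12) (by simp) hr _ _))).trans ?_
  exact (Eqv.conj (n 18 (by simp) _) (high_conj (a := 13) (by simp) hr _ _)).trans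
    (high_conj (a := 18) (by simp) hr _ _)

/-- `Y1 1` adds the sum of the two other conjugates to `S2`. -/
theorem Y1_one_S {q : ℕ} (hadd : ∀ a b : K, (a + b) ^ q = a ^ q + b ^ q)
    (hq3 : ∀ s : K, (s ^ (q ^ 2)) ^ q = s) (s s' : K) :
    Eqv (Y1 q 1 * (S1 q s * S2 q s') * (Y1 q 1)⁻¹)
      (S1 q s * S2 q s' * S2 q (s ^ q + s ^ (q ^ 2))) := by
  obtain ⟨a1, a2, a3, a4, a5, a6, a7, a8, a9, a10, n12, n13, n18⟩ := tblB
  obtain ⟨-, -, -, b13_16, b13_15, b13_17, -, -, c5, c6, c3, c4, c7, c8⟩ := tblA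
  set g := Y1 q (1 : K) with hgdef
  have hg : g = xGL chevD4 K 18 1 * xGL chevD4 K 13 1 * xGL chevD4 K 12 1 := by
    rw [hgdef, Y1, one_pow, one_pow]
  have e : ∀ (a b c x : GL chevD4.Idx K), a * b * c * x * (a * b * c)⁻¹ =
      a * (b * (c * x * c⁻¹) * b⁻¹) * a⁻¹ := fun a b c x => by group
  have e2 : ∀ (g a b : GL chevD4.Idx K), g * (a * b) * g⁻¹ = (g * a * g⁻¹) * (g * b * g⁻¹) :=
    fun g a b => by group
  have h19 : ∀ a : K, Eqv (g * xGL chevD4 K 19 a * g⁻¹) (mp [(19, a), (21, a), (20, a)]) := by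
    intro a
    rw [hg, e, conj_x (by omega) (by omega) (by omega) (by omega) a1 (by omega) (by omega) (by omega) a2, e2 (xGL chevD4 K 13 _),
      conj_x (by omega) (by omega) (by omega) (by omega) a5 (by omega) (by omega) (by omega) a6,
      conj_x (by omega) (by omega) (by omega) (by omega) a7 (by omega) (by omega) (by omega) a8]
    simp only [Int.cast_one, one_mul, e2]
    rw [conj_x_none (by omega) (by omega) (by omega) a10, conj_x_none (by omega) (by omega) (by omega) c6,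
      conj_x_none (by omega) (by omega) (by omega) c4, conj_x_none (by omega) (by omega) (by omega) c8]
    simp only [mp, List.map_cons, List.map_nil, List.prod_cons, List.prod_nil, mul_one, ← mul_assoc]
    exact Eqv.mul_top (top_mem _).1
  have h16 : ∀ a : K, Eqv (g * xGL chevD4 K 16 a * g⁻¹) (mp [(16, a), (21, -a), (17, a)]) := by
    intro a
    rw [hg, e, conj_x (by omega) (by omega) (by omega) (by omega) a3 (by omega) (by omega) (by omega) a4, e2 (xGL chevD4 K 13 _),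
      conj_x_none (by omega) (by omega) (by omega) b13_16, conj_x_none (by omega) (by omega) (by omega) b13_17]
    simp only [Int.cast_one, one_mul, e2]
    rw [conj_x (by omega) (by omega) (by omega) (by omega) c5 (by omega) (by omega) (by omega) c6,
      conj_x (by omega) (by omega) (by omega) (by omega) c7 (by omega) (by omega) (by omega) c8]
    simp only [Int.cast_neg, Int.cast_one, neg_mul, one_mul, mp, List.map_cons, List.map_nil, List.prod_cons,
      List.prod_nil, mul_one, ← mul_assoc]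
    exact Eqv.mul_top (top_mem _).1
  have h15 : ∀ a : K, Eqv (g * xGL chevD4 K 15 a * g⁻¹) (mp [(15, a), (20, -a), (17, a)]) := by
    intro a
    rw [hg, e, conj_x_none (by omega) (by omega) (by omega) a9,
      conj_x (by omega) (by omega) (by omega) (by omega) b13_15 (by omega) (by omega) (by omega) b13_17]
    simp only [Int.cast_one, one_mul, e2]
    rw [conj_x (by omega) (by omega) (by omega) (by omega) c3 (by omega) (by omega) (by omega) c4,
      conj_x (by omega) (by omega) (by omega) (by omega) c7 (by omega) (by omega) (by omega) c8]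
    simp only [Int.cast_neg, Int.cast_one, neg_mul, one_mul, mp, List.map_cons, List.map_nil, List.prod_cons,
      List.prod_nil, mul_one, ← mul_assoc]
    exact Eqv.mul_top (top_mem _).1
  have hn : ∀ r ∈ [19, 16, 15, 21, 17, 20], ∀ v : K,
      g * xGL chevD4 K r v * g⁻¹ ∈ Subgroup.normalizer (NTop K : Set (GL chevD4.Idx K)) := fun r hr v =>
    mul_mem (mul_mem (Y1_mem_norm q 1) (x_mem_norm (mid_table r hr r hr).1 v)) (inv_mem (Y1_mem_norm q 1))
  have hh : ∀ r ∈ [21, 17, 20], ∀ v : K, Eqv (g * xGL chevD4 K r v * g⁻¹) (mp [(r, v)]) := by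
    intro r hr v
    simpa [mp] using Y1_high (q := q) hr (1 : K) v
  set s1 := s ^ q with hs1
  set s2 := s ^ (q ^ 2) with hs2
  have d1 : (s1 + s2) ^ q = s2 + s := by
    rw [hadd, hs1, ← pow_mul, ← pow_two, hs2, hq3]
  have d2 : (s1 + s2) ^ (q ^ 2) = s + s1 := by
    rw [pow_two, pow_mul, d1, hadd, hs2, hq3]
  have hsum : S2 q s' * S2 q (s1 + s2) = mp [(17, s'), (20, -s' ^ q), (21, -s' ^ (q ^ 2)), (17, s1 + s2),
      (20, -(s2 + s)), (21, -(s + s1))] := by
    simp [S2, mp, d1, d2, mul_assoc]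
  have hA : g * (S1 q s * S2 q s') * g⁻¹ =
      (g * xGL chevD4 K 19 (-s) * g⁻¹) * ((g * xGL chevD4 K 16 s1 * g⁻¹) * ((g * xGL chevD4 K 15 s2 * g⁻¹) *
        ((g * xGL chevD4 K 17 s' * g⁻¹) * ((g * xGL chevD4 K 20 (-s' ^ q) * g⁻¹) *
          (g * xGL chevD4 K 21 (-s' ^ (q ^ 2)) * g⁻¹))))) := by
    simp only [S1, S2, hs1, hs2]
    group
  have m1 := hn 21 (by simp) (-s' ^ (q ^ 2))
  have m2 := mul_mem (hn 20 (by simp) (-s' ^ q)) m1
  have m3 := mul_mem (hn 17 (by simp) s') m2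
  have m4 := mul_mem (hn 15 (by simp) s2) m3
  have m5 := mul_mem (hn 16 (by simp) s1) m4
  rw [hA]
  refine (Eqv.mul m5 (h19 _) (Eqv.mul m4 (h16 _) (Eqv.mul m3 (h15 _) (Eqv.mul m2 (hh 17 (by simp) _)
    (Eqv.mul m1 (hh 20 (by simp) _) (hh 21 (by simp) _)))))).trans ?_
  rw [mul_assoc (S1 q s), hsum, S1]
  -- collect the coefficients
  have split17 : xGL chevD4 K 17 (s1 + s2) = xGL chevD4 K 17 s1 * xGL chevD4 K 17 s2 :=
    ((sysD4 K).x_add 17 (show 17 < chevD4.nroots by decide) s1 s2).symm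
  have split20 : xGL chevD4 K 20 (-(s2 + s)) = xGL chevD4 K 20 (-s2) * xGL chevD4 K 20 (-s) := by
    rw [neg_add]
    exact ((sysD4 K).x_add 20 (show 20 < chevD4.nroots by decide) _ _).symm
  have split21 : xGL chevD4 K 21 (-(s + s1)) = xGL chevD4 K 21 (-s) * xGL chevD4 K 21 (-s1) := by
    rw [neg_add]
    exact ((sysD4 K).x_add 21 (show 21 < chevD4.nroots by decide) _ _).symm
  have key := mp_perm (K := K)
    (l := [(19, -s), (21, -s), (20, -s), (16, s1), (21, -s1), (17, s1), (15, s2), (20, -s2), (17, s2),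
      (17, s'), (20, -s' ^ q), (21, -s' ^ (q ^ 2))])
    (l' := [(19, -s), (16, s1), (15, s2), (17, s'), (20, -s' ^ q), (21, -s' ^ (q ^ 2)), (17, s1), (17, s2),
      (20, -s2), (20, -s), (21, -s), (21, -s1)])
    (by
      classical
      rw [List.perm_iff_count]
      intro x
      simp only [List.count_cons, List.count_nil]
      ring) (by simp)
  simp only [mp, List.map_cons, List.map_nil, List.prod_cons, List.prod_nil, mul_one, mul_assoc,
    split17, split20, split21] at key ⊢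
  exact key

end Cfsg.Agent.ChevTw.D4Max
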