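import Cfsg.Agent.ChevTw.D4Max.Basic

/-!
The two fixed Weyl representatives of ³D₄(q) (owner: helper86).
-/

set_option autoImplicit false
set_option linter.unusedSectionVars false

namespace Cfsg.Agent.ChevTw.D4Max

open Cfsg.Lie Cfsg.Agent.ChevGrp Cfsg.Agent.ChevTw Cfsg.Agent.ChevTw.D4Torus

variable {K : Type*} [Field K]

/-- The action of `n_i` with an integral sign. -/
theorem nI_conj (i : Fin chevD4.rank) {s : ℕ} (hs : s < 24) :
    ∃ η : ℤ, (η = 1 ∨ η = -1) ∧ ∀ t : K,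
      (sysD4 K).nI i * xGL chevD4 K s t * ((sysD4 K).nI i)⁻¹ =
        xGL chevD4 K (chevD4.reflectRoot i s) ((η : K) * t) := by
  have hS := rulesD4 K
  have hR := rootD4 K
  refine ⟨hS.eta i s, hS.eta_sq i (show s < chevD4.nroots from hs), fun t => ?_⟩
  exact (sysD4 K).conj_all hS hR i ((sysD4 K).nEl_mem_rankOne i 1) (Or.inr rfl)
    (fun s => (hS.eta i s : K)) (fun s hs t => (sysD4 K).θ_nI_conj hS hR i hs t) s hs t

/-- The representative of the long fundamental root. -/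
noncomputable def nb (K : Type*) [Field K] : GL chevD4.Idx K := (sysD4 K).nI ⟨1, by decide⟩

/-- The representative of the short fundamental root. -/
noncomputable def na (K : Type*) [Field K] : GL chevD4.Idx K :=
  (sysD4 K).nI ⟨0, by decide⟩ * ((sysD4 K).nI ⟨2, by decide⟩ * (sysD4 K).nI ⟨3, by decide⟩)

/-- The permutation of `na`. -/
def wA (s : ℕ) : ℕ := chevD4.reflectRoot 0 (chevD4.reflectRoot 2 (chevD4.reflectRoot 3 s))

theorem wA_lt : ∀ s < 24, chevD4.reflectRoot 3 s < 24 ∧ chevD4.reflectRoot 2 (chevD4.reflectRoot 3 s) < 24 ∧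
    chevD4.reflectRoot 1 s < 24 := by decide +kernel

theorem nb_conj {s : ℕ} (hs : s < 24) : ∃ η : ℤ, (η = 1 ∨ η = -1) ∧ ∀ t : K,
    nb K * xGL chevD4 K s t * (nb K)⁻¹ = xGL chevD4 K (chevD4.reflectRoot 1 s) ((η : K) * t) :=
  nI_conj ⟨1, by decide⟩ hs

theorem na_conj {s : ℕ} (hs : s < 24) : ∃ η : ℤ, (η = 1 ∨ η = -1) ∧ ∀ t : K,
    na K * xGL chevD4 K s t * (na K)⁻¹ = xGL chevD4 K (wA s) ((η : K) * t) := by
  obtain ⟨e3, h3, c3⟩ := nI_conj (K := K) ⟨3, by decide⟩ hs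
  obtain ⟨e2, h2, c2⟩ := nI_conj (K := K) ⟨2, by decide⟩ (wA_lt s hs).1
  obtain ⟨e0, h0, c0⟩ := nI_conj (K := K) ⟨0, by decide⟩ (wA_lt s hs).2.1
  refine ⟨e0 * e2 * e3, ?_, fun t => ?_⟩
  · rcases h0 with rfl | rfl <;> rcases h2 with rfl | rfl <;> rcases h3 with rfl | rfl <;> simp
  have e : ∀ a b c x : GL chevD4.Idx K,
      a * (b * c) * x * (a * (b * c))⁻¹ = a * (b * (c * x * c⁻¹) * b⁻¹) * a⁻¹ := fun a b c x => by group
  rw [na, e, c3, c2, c0, wA, Int.cast_mul, Int.cast_mul]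
  simp only [mul_assoc]

theorem cast_sign_ne {η : ℤ} (h : η = 1 ∨ η = -1) : (η : K) ≠ 0 := by
  rcases h with rfl | rfl <;> simp

variable [Fintype K] {q : ℕ} (hq : IsPrimePow q) (hK : Fintype.card K = q ^ 3)

include hq hK in
theorem intCast_pow_q (η : ℤ) : (η : K) ^ q = η := by
  rw [← frobD4_apply hq hK, map_intCast]

include hq hK in
theorem na_eq :
    na K = Y1 q (1 : K) * (xGL chevD4 K 5 (-1) * xGL chevD4 K 10 (-1) * xGL chevD4 K 11 (-1)) * Y1 q (1 : K) := by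
  have h : chevD4.simple 0 = 18 ∧ chevD4.simple 2 = 13 ∧ chevD4.simple 3 = 12 ∧
      chevD4.neg 18 = 5 ∧ chevD4.neg 13 = 10 ∧ chevD4.neg 12 = 11 := by decide +kernel
  obtain ⟨p0, p2, p3, n0, n2, n3⟩ := h
  simp only [na, Sys.nI, Sys.nEl, p0, p2, p3, n0, n2, n3, inv_one, Y1, one_pow]
  show xGL chevD4 K 18 1 * xGL chevD4 K 5 (-1) * xGL chevD4 K 18 1 *
    (xGL chevD4 K 13 1 * xGL chevD4 K 10 (-1) * xGL chevD4 K 13 1 *
      (xGL chevD4 K 12 1 * xGL chevD4 K 11 (-1) * xGL chevD4 K 12 1)) = _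
  have cm : ∀ r ∈ [18, 13, 12, 5, 10, 11], ∀ s ∈ [18, 13, 12, 5, 10, 11], s ≠ r → s ≠ chevD4.neg r →
      ∀ a b : K, Commute (xGL chevD4 K r a) (xGL chevD4 K s b) :=
    fun r hr s hs h1 h2 a b => x_commuteD4 hr hs h1 h2 a b
  set a := xGL chevD4 K 18 (1 : K)
  set b := xGL chevD4 K 13 (1 : K)
  set c := xGL chevD4 K 12 (1 : K)
  set a' := xGL chevD4 K 5 (-1 : K)
  set b' := xGL chevD4 K 10 (-1 : K)
  set c' := xGL chevD4 K 11 (-1 : K)
  have ab : Commute a b := cm 18 (by simp) 13 (by simp) (by omega) (by rw [n0]; omega) _ _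
  have ac : Commute a c := cm 18 (by simp) 12 (by simp) (by omega) (by rw [n0]; omega) _ _
  have bc : Commute b c := cm 13 (by simp) 12 (by simp) (by omega) (by rw [n2]; omega) _ _
  have ab' : Commute a b' := cm 18 (by simp) 10 (by simp) (by omega) (by rw [n0]; omega) _ _
  have ac' : Commute a c' := cm 18 (by simp) 11 (by simp) (by omega) (by rw [n0]; omega) _ _
  have bc' : Commute b c' := cm 13 (by simp) 11 (by simp) (by omega) (by rw [n2]; omega) _ _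
  have a'b : Commute a' b := (cm 13 (by simp) 5 (by simp) (by omega) (by rw [n2]; omega) _ _).symm
  have a'c : Commute a' c := (cm 12 (by simp) 5 (by simp) (by omega) (by rw [n3]; omega) _ _).symm
  have b'c : Commute b' c := (cm 12 (by simp) 10 (by simp) (by omega) (by rw [n3]; omega) _ _).symm
  calc a * a' * a * (b * b' * b * (c * c' * c))
      = a * a' * (a * b) * b' * b * c * c' * c := by group
    _ = a * a' * (b * a) * b' * b * c * c' * c := by rw [ab.eq]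
    _ = a * (a' * b) * (a * b') * (b * c) * c' * c := by group
    _ = a * (b * a') * (b' * a) * (c * b) * c' * c := by rw [a'b.eq, ab'.eq, bc.eq]
    _ = a * b * a' * b' * (a * c) * (b * c') * c := by group
    _ = a * b * a' * b' * (c * a) * (c' * b) * c := by rw [ac.eq, bc'.eq]
    _ = a * b * a' * (b' * c) * (a * c') * b * c := by group
    _ = a * b * a' * (c * b') * (c' * a) * b * c := by rw [b'c.eq, ac'.eq]
    _ = a * b * (a' * c) * b' * c' * a * b * c := by group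
    _ = a * b * (c * a') * b' * c' * a * b * c := by rw [a'c.eq]
    _ = a * b * c * (a' * b' * c') * (a * b * c) := by group

include hq hK in
theorem na_mem : na K ∈ twistedD4 K q := by
  rw [na_eq hq hK]
  have h := word_mem_genSubgroup (rulesD4 K) (W := d4Words K q)
    (w := [(5, -1), (10, (-1 : K) ^ q), (11, (-1 : K) ^ (q ^ 2))])
    (Or.inr ⟨-1, (5, 10, 11), by simp [d4m1, d4m3, d4m4], rfl⟩)
  have e : (-1 : K) ^ (q ^ 2) = -1 := by
    rw [pow_two, pow_mul, neg_one_pow_q hq hK, neg_one_pow_q hq hK]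
  rw [neg_one_pow_q hq hK, e] at h
  refine mul_mem (mul_mem (Y1_mem 1) ?_) (Y1_mem 1)
  unfold twistedD4
  simpa [mul_assoc] using h

theorem frG_na : frG hq hK (na K) = na K := by
  rw [na_eq hq hK]
  simp only [map_mul, frG_x, frG_Y1 hq hK, one_pow, neg_one_pow_q hq hK]

theorem nb_eq : nb K = xGL chevD4 K 14 1 * xGL chevD4 K 9 (-1) * xGL chevD4 K 14 1 := by
  have h : chevD4.simple 1 = 14 ∧ chevD4.neg 14 = 9 := by decide +kernel
  simp only [nb, Sys.nI, Sys.nEl, h.1, h.2, inv_one]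
  rfl

include hq hK in
theorem nb_mem : nb K ∈ twistedD4 K q := by
  rw [nb_eq]
  exact mul_mem (mul_mem (long_mem hq hK (by simp) (one_pow q))
    (long_mem hq hK (by simp) (neg_one_pow_q hq hK))) (long_mem hq hK (by simp) (one_pow q))

theorem frG_nb : frG hq hK (nb K) = nb K := by
  rw [nb_eq]
  simp only [map_mul, frG_x, one_pow, neg_one_pow_q hq hK]

theorem wA_facts : wA 14 = 22 ∧ wA 22 = 14 ∧ wA 23 = 23 ∧ wA 9 = 1 ∧ wA 1 = 9 ∧ wA 0 = 0 ∧
    wA 19 = 17 ∧ wA 16 = 20 ∧ wA 15 = 21 ∧ wA 18 = 5 ∧ wA 13 = 10 ∧ wA 12 = 11 ∧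
    chevD4.reflectRoot 1 22 = 23 ∧ chevD4.reflectRoot 1 18 = 19 ∧ chevD4.reflectRoot 1 13 = 16 ∧
    chevD4.reflectRoot 1 12 = 15 ∧ chevD4.reflectRoot 1 14 = 9 ∧ chevD4.reflectRoot 1 1 = 0 := by
  and_intros <;> decide +kernel

include hq hK in
theorem nb_Y1 : ∃ η : ℤ, (η = 1 ∨ η = -1) ∧ ∀ t : K, nb K * Y1 q t * (nb K)⁻¹ = S1 q ((η : K) * t) := by
  obtain ⟨e18, h18, c18⟩ := nb_conj (K := K) (s := 18) (by omega)
  obtain ⟨e13, -, c13⟩ := nb_conj (K := K) (s := 13) (by omega)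
  obtain ⟨e12, -, c12⟩ := nb_conj (K := K) (s := 12) (by omega)
  obtain ⟨-, -, -, -, -, -, -, -, -, -, -, -, -, w18, w13, w12, -, -⟩ := wA_facts
  refine ⟨-e18, by rcases h18 with rfl | rfl <;> simp, fun t => ?_⟩
  have hm : nb K * Y1 q t * (nb K)⁻¹ ∈ twistedD4 K q :=
    mul_mem (mul_mem (nb_mem hq hK) (Y1_mem t)) (inv_mem (nb_mem hq hK))
  have e : nb K * Y1 q t * (nb K)⁻¹ = xGL chevD4 K 19 ((e18 : K) * t) * xGL chevD4 K 16 ((e13 : K) * t ^ q) *
      xGL chevD4 K 15 ((e12 : K) * t ^ (q ^ 2)) := by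
    rw [Y1, ← w18, ← w13, ← w12, ← c18, ← c13, ← c12]
    group
  rw [e, fixed_S1 hq hK (by rw [← e]; exact sig_fixed hq hK hm)]
  push_cast
  ring_nf

include hq hK in
theorem na_S1 : ∃ η : ℤ, (η = 1 ∨ η = -1) ∧ ∀ t : K, na K * S1 q t * (na K)⁻¹ = S2 q ((η : K) * t) := by
  obtain ⟨e19, h19, c19⟩ := na_conj (K := K) (s := 19) (by omega)
  obtain ⟨e16, -, c16⟩ := na_conj (K := K) (s := 16) (by omega)
  obtain ⟨e15, -, c15⟩ := na_conj (K := K) (s := 15) (by omega)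
  obtain ⟨-, -, -, -, -, -, w19, w16, w15, -, -, -, -, -, -, -, -, -⟩ := wA_facts
  refine ⟨-e19, by rcases h19 with rfl | rfl <;> simp, fun t => ?_⟩
  obtain ⟨η, hη, hb⟩ := nb_Y1 hq hK (K := K)
  have hS1 : S1 q t ∈ twistedD4 K q := by
    have h := hb ((η : K) * t)
    rw [← mul_assoc, ← Int.cast_mul, show η * η = 1 by rcases hη with rfl | rfl <;> simp, Int.cast_one,
      one_mul] at h
    rw [← h]
    exact mul_mem (mul_mem (nb_mem hq hK) (Y1_mem _)) (inv_mem (nb_mem hq hK))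
  have hm : na K * S1 q t * (na K)⁻¹ ∈ twistedD4 K q :=
    mul_mem (mul_mem (na_mem hq hK) hS1) (inv_mem (na_mem hq hK))
  have e : na K * S1 q t * (na K)⁻¹ = xGL chevD4 K 17 ((e19 : K) * -t) * xGL chevD4 K 20 ((e16 : K) * t ^ q) *
      xGL chevD4 K 21 ((e15 : K) * t ^ (q ^ 2)) := by
    rw [S1, ← w19, ← w16, ← w15, ← c19, ← c16, ← c15]
    group
  rw [e, fixed_S2 hq hK (by rw [← e]; exact sig_fixed hq hK hm)]
  push_cast
  ring_nf

include hq hK in
theorem na_Y1 : ∃ η : ℤ, (η = 1 ∨ η = -1) ∧ ∀ t : K, na K * Y1 q t * (na K)⁻¹ =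
    (((wordsD4 q ((η : K) * t)).getD 3 []).map fun p => xGL chevD4 K p.1 p.2).prod := by
  obtain ⟨e18, h18, c18⟩ := na_conj (K := K) (s := 18) (by omega)
  obtain ⟨e13, -, c13⟩ := na_conj (K := K) (s := 13) (by omega)
  obtain ⟨e12, -, c12⟩ := na_conj (K := K) (s := 12) (by omega)
  obtain ⟨-, -, -, -, -, -, -, -, -, w18, w13, w12, -, -, -, -, -, -⟩ := wA_facts
  refine ⟨e18, h18, fun t => ?_⟩
  have hm : na K * Y1 q t * (na K)⁻¹ ∈ twistedD4 K q :=
    mul_mem (mul_mem (na_mem hq hK) (Y1_mem t)) (inv_mem (na_mem hq hK))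
  have e : na K * Y1 q t * (na K)⁻¹ = xGL chevD4 K 5 ((e18 : K) * t) * xGL chevD4 K 10 ((e13 : K) * t ^ q) *
      xGL chevD4 K 11 ((e12 : K) * t ^ (q ^ 2)) := by
    rw [Y1, ← w18, ← w13, ← w12, ← c18, ← c13, ← c12]
    group
  obtain ⟨hb, hc⟩ := fixed_neg hq hK (by rw [← e]; exact sig_fixed hq hK hm)
  rw [e, hb, hc]
  simp [wordsD4, mul_assoc]

end Cfsg.Agent.ChevTw.D4Max
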